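import Groth.Agent.S0585
import Mathlib

/-!
# Projectivity is local for finite flat covers
-/

set_option autoImplicit false

universe u

open TensorProduct

namespace LocProjLib

/-- A projective module over a factor of a finite product is projective over the product. -/
theorem projective_of_factor {ι : Type u} [DecidableEq ι] {L : ι → Type u} [∀ i, CommRing (L i)] (i : ι)
    {P : Type u} [AddCommGroup P] [Module (L i) P] [Module (Π j, L j) P]
    (hsmul : ∀ (s : Π j, L j) (p : P), s • p = s i • p) [Module.Projective (L i) P] :
    Module.Projective (Π j, L j) P := by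
  obtain ⟨s, hs⟩ := (inferInstance : Module.Projective (L i) P).out
  let j : L i →+ (Π j, L j) := AddMonoidHom.single L i
  let σ : P →ₗ[Π j, L j] (P →₀ (Π j, L j)) :=
    { toFun := fun p => (s p).mapRange j (map_zero j)
      map_add' := fun p q => by rw [map_add, Finsupp.mapRange_add (map_add j)]
      map_smul' := fun a p => by
        rw [hsmul, map_smul]
        ext x : 1
        simp only [Finsupp.mapRange_apply, Finsupp.smul_apply, RingHom.id_apply, smul_eq_mul]
        funext k
        by_cases hk : k = i
        · subst hk; simp [j]
        · simp [j, Pi.single_eq_of_ne hk] }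
  refine Module.Projective.of_split σ (Finsupp.linearCombination _ (id : P → P)) ?_
  ext p
  have h2 : Finsupp.linearCombination (L i) id (s p) = p := hs p
  simp only [LinearMap.coe_comp, Function.comp_apply, LinearMap.id_coe, id_eq]
  change Finsupp.linearCombination _ (id : P → P) ((s p).mapRange j (map_zero j)) = p
  rw [Finsupp.linearCombination_apply, Finsupp.sum_mapRange_index (by intro; simp)]
  rw [Finsupp.linearCombination_apply] at h2
  refine Eq.trans (Finsupp.sum_congr fun x _ => ?_) h2
  rw [hsmul]
  simp [j]

/-- A module is projective if it is projective after base change to each member of a finite flat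
cover. -/
theorem projective_of_cover {A : Type u} [CommRing A] {ι : Type u} [Finite ι] (L : ι → Type u)
    [∀ i, CommRing (L i)] [∀ i, Algebra A (L i)] [∀ i, Module.Flat A (L i)]
    (hcov : ∀ p : PrimeSpectrum A, ∃ (i : ι) (q : PrimeSpectrum (L i)), q.comap (algebraMap A (L i)) = p)
    (M : Type u) [AddCommGroup M] [Module A M] [∀ i, Module.Projective (L i) (L i ⊗[A] M)] :
    Module.Projective A M := by
  classical
  haveI := Fintype.ofFinite ι
  haveI : Module.Flat A (Π i, L i) :=
    Module.Flat.of_linearEquiv (DirectSum.linearEquivFunOnFintype A ι L).symm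
  haveI : Module.FaithfullyFlat A (Π i, L i) := by
    refine Module.FaithfullyFlat.of_comap_surjective fun p => ?_
    obtain ⟨i, q, hq⟩ := hcov p
    refine ⟨q.comap (Pi.evalRingHom L i), ?_⟩
    rw [← hq]
    rfl
  letI : ∀ i, Module (Π j, L j) (L i ⊗[A] M) := fun i => Module.compHom _ (Pi.evalRingHom L i)
  haveI : ∀ i, Module.Projective (Π j, L j) (L i ⊗[A] M) := fun i =>
    projective_of_factor i (fun _ _ => rfl)
  haveI : Module.Projective (Π j, L j) (Π i, L i ⊗[A] M) :=
    Module.Projective.of_equiv (DirectSum.linearEquivFunOnFintype (Π j, L j) ι fun i => L i ⊗[A] M)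
  let e : (Π i, L i) ⊗[A] M ≃ₗ[A] Π i, L i ⊗[A] M := TensorProduct.piLeft A M L
  have he : ∀ (s : Π i, L i) (x : (Π i, L i) ⊗[A] M), e (s • x) = s • e x := by
    intro s x
    induction x using TensorProduct.induction_on with
    | zero => simp
    | tmul a m =>
      funext i
      rw [TensorProduct.smul_tmul']
      simp [e, Pi.smul_apply', Module.compHom, TensorProduct.smul_tmul']
    | add x y hx hy => rw [smul_add, map_add, hx, hy, map_add, smul_add]
  let e' : (Π i, L i) ⊗[A] M ≃ₗ[Π i, L i] Π i, L i ⊗[A] M := { e with map_smul' := he }
  haveI : Module.Projective (Π i, L i) ((Π i, L i) ⊗[A] M) := Module.Projective.of_equiv e'.symm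
  exact Groth.Agent.S0585.result A (Π i, L i) M

end LocProjLib
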